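import Groth.Agent.AlgSpDec.GpdHomog
import Groth.Agent.AlgSpDec.SmoothLocDim
import Groth.Agent.HilbCurve.Main
import Groth.Agent.S2768

/-!
# Smooth curves over a field have dimension at most one
-/

set_option autoImplicit false
set_option linter.style.haveILetI false

universe u

open CategoryTheory AlgebraicGeometry

namespace Groth.Agent.CurveKummer

theorem topologicalKrullDim_le_one {k : Type u} [Field k] {X : Scheme.{u}} (f : X ⟶ Spec (CommRingCat.of k))
    [SmoothOfRelativeDimension 1 f] : topologicalKrullDim X ≤ 1 := by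
  haveI : Smooth f := SmoothOfRelativeDimension.smooth 1 f
  haveI : IsLocallyNoetherian X := LocallyOfFiniteType.isLocallyNoetherian f
  haveI : Subsingleton ↥(Spec (CommRingCat.of k)) := inferInstanceAs (Subsingleton (PrimeSpectrum k))
  rw [AlgSpPts.topologicalKrullDim_eq_krullDim, Order.krullDim_eq_iSup_coheight]
  refine iSup_le fun x => (AlgSpDec.GpdHomog.coheight_le_localDim X x).trans ?_
  rw [AlgSpDec.SmoothLocDim.localDim_eq_add f x, S2768.result 1 f x]
  have hY : FlatMor.localDim ↥(Spec (CommRingCat.of k)) (f x) ≤ 0 :=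
    iInf_le_of_le ⟨⊤, trivial⟩ (HilbCurve.topologicalKrullDim_nonpos _)
  calc _ ≤ 0 + ((1 : ℕ) : WithBot ℕ∞) := by gcongr
    _ = 1 := by simp

end Groth.Agent.CurveKummer
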